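import Groth.Agent.CohProp.K50.GNModel
import Mathlib.RingTheory.Flat.Equalizer
import Mathlib.RingTheory.Localization.Finiteness
import Mathlib.RingTheory.Ideal.GoingUp

/-!
# Spreading out a geometrically normal cover
-/

set_option autoImplicit false
set_option linter.unusedSectionVars false
open scoped TensorProduct nonZeroDivisors
universe u

namespace K50.GNCover

open Groth.Agent.Ega43.GeomAt Groth.Agent.Ega4fib.H173.NormalPoint
open Groth.Agent.FlatA.GenericFree
open EGA4 (IsNormalRing)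

theorem isNormalRing_fibre (R₀ B₀ R₁ : Type u) [CommRing R₀] [CommRing B₀] [Algebra R₀ B₀]
    [CommRing R₁] [Algebra R₀ R₁] (a : R₀) (ha : IsUnit (algebraMap R₀ R₁ a))
    (h : ∀ q : Ideal B₀, q.IsPrime → algebraMap R₀ B₀ a ∉ q →
      GeomAtAlg (fun R _ => PNor R) R₀ B₀ q)
    (K : Type u) [Field K] [Algebra R₁ K] : IsNormalRing (K ⊗[R₁] (R₁ ⊗[R₀] B₀)) := by
  let _ : Algebra R₀ K := ((algebraMap R₁ K).comp (algebraMap R₀ R₁)).toAlgebra
  have : IsScalarTower R₀ R₁ K := .of_algebraMap_eq fun _ => rfl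
  have h1 : IsNormalRing (B₀ ⊗[R₀] K) := by
    intro Q _
    refine h (Q.comap (algebraMap B₀ (B₀ ⊗[R₀] K))) inferInstance (fun h2 => ?_) K Q rfl
    rw [Ideal.mem_comap, ← IsScalarTower.algebraMap_apply R₀ B₀ (B₀ ⊗[R₀] K)] at h2
    have h3 : algebraMap R₀ (B₀ ⊗[R₀] K) a = (1 : B₀) ⊗ₜ[R₀] (algebraMap R₀ K a) := by
      rw [Algebra.TensorProduct.algebraMap_apply, Algebra.algebraMap_eq_smul_one,
        TensorProduct.smul_tmul, ← Algebra.algebraMap_eq_smul_one]
    have h4 : IsUnit (algebraMap R₀ (B₀ ⊗[R₀] K) a) := by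
      rw [h3]
      have h5 : IsUnit (algebraMap R₀ K a) := ha.map (algebraMap R₁ K)
      exact h5.map (Algebra.TensorProduct.includeRight : K →ₐ[R₀] B₀ ⊗[R₀] K)
    exact ‹Q.IsPrime›.ne_top (Ideal.eq_top_of_isUnit_mem _ h2 h4)
  have h2 : IsNormalRing (K ⊗[R₀] B₀) :=
    Groth.Agent.S2070.isNormalRing_of_ringEquiv (Algebra.TensorProduct.comm R₀ B₀ K).toRingEquiv h1
  exact Groth.Agent.S2070.isNormalRing_of_ringEquiv
    (Algebra.TensorProduct.cancelBaseChange R₀ R₁ K K B₀).symm.toRingEquiv h2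

theorem mem_nonZeroDivisors (R₀ B₀ R₁ : Type u) [CommRing R₀] [CommRing B₀] [IsDomain B₀]
    [Algebra R₀ B₀] [CommRing R₁] [Algebra R₀ R₁] (f : R₀) [IsLocalization.Away f R₁] (b : B₀)
    (hb : b ≠ 0) (h : FreeAway R₀ (B₀ ⧸ Ideal.span {b}) f)
    (K : Type u) [Field K] [Algebra R₁ K] :
    ((1 : K) ⊗ₜ[R₁] ((1 : R₁) ⊗ₜ[R₀] b) : K ⊗[R₁] (R₁ ⊗[R₀] B₀)) ∈
      nonZeroDivisors (K ⊗[R₁] (R₁ ⊗[R₀] B₀)) := by
  let m : B₀ →ₗ[R₀] B₀ := LinearMap.mulLeft R₀ b
  let p : B₀ →ₗ[R₀] B₀ ⧸ Ideal.span {b} := (Ideal.Quotient.mkₐ R₀ (Ideal.span {b})).toLinearMap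
  have hm : Function.Injective m := fun x y hxy => mul_left_cancel₀ hb hxy
  have hp : Function.Surjective p := Ideal.Quotient.mk_surjective
  have hex : Function.Exact m p := by
    intro x
    change Ideal.Quotient.mk _ x = 0 ↔ _
    rw [Ideal.Quotient.eq_zero_iff_mem, Ideal.mem_span_singleton']
    constructor
    · rintro ⟨y, hy⟩
      exact ⟨y, by change b * y = x; rw [mul_comm]; exact hy⟩
    · rintro ⟨y, hy⟩
      exact ⟨y, by rw [mul_comm]; exact hy⟩
  have hflat : Module.Flat R₀ R₁ := IsLocalization.flat R₁ (Submonoid.powers f)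
  have hm' : Function.Injective (m.baseChange R₁) :=
    Module.Flat.lTensor_preserves_injective_linearMap m hm
  have hp' : Function.Surjective (p.baseChange R₁) := LinearMap.lTensor_surjective R₁ hp
  have hex' : Function.Exact (m.baseChange R₁) (p.baseChange R₁) := lTensor_exact R₁ hex hp
  have hfree : Module.Free R₁ (R₁ ⊗[R₀] (B₀ ⧸ Ideal.span {b})) := h.free_tensor R₁
  have hinj := LinearMap.lTensor_injective_of_exact_of_flat (p.baseChange R₁) hp'
    (m.baseChange R₁) hm' hex' K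
  have key : ∀ z : K ⊗[R₁] (R₁ ⊗[R₀] B₀), (m.baseChange R₁).lTensor K z =
      ((1 : K) ⊗ₜ[R₁] ((1 : R₁) ⊗ₜ[R₀] b)) * z := by
    intro z
    induction z with
    | zero => simp
    | add x y hx hy => rw [map_add, hx, hy, mul_add]
    | tmul x y =>
      induction y with
      | zero => simp
      | add y z hy hz => rw [TensorProduct.tmul_add, map_add, hy, hz, mul_add]
      | tmul y z => simp [m]
  rw [mem_nonZeroDivisors_iff]
  refine ⟨fun z hz => hinj ?_, fun z hz => hinj ?_⟩
  · rw [key, hz, map_zero]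
  · rw [key, mul_comm, hz, map_zero]

theorem exists_dvd (R R₀ : Type u) [CommRing R] [IsDomain R] [CommRing R₀] [IsDomain R₀]
    [Algebra R R₀] [Module.Finite R R₀] (a : R₀) (ha : a ≠ 0) :
    ∃ r : R, r ≠ 0 ∧ a ∣ algebraMap R R₀ r := by
  have h := Ideal.comap_ne_bot_of_integral_mem (R := R) (I := Ideal.span {a}) ha
    (Ideal.mem_span_singleton_self a) (Algebra.IsIntegral.isIntegral a)
  obtain ⟨r, hr, hr0⟩ := Submodule.exists_mem_ne_zero_of_ne_bot h
  exact ⟨r, hr0, Ideal.mem_span_singleton.1 hr⟩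

theorem exists_away (A B₀ B : Type u) [CommRing A] [CommRing B₀] [IsDomain B₀] [Algebra A B₀]
    [Module.Finite A B₀] (hinj : Function.Injective (algebraMap A B₀)) (x : A) (hx : x ≠ 0)
    [CommRing B] [Algebra B₀ B] [IsLocalization.Away (algebraMap A B₀ x) B] :
    ∃ _ : Algebra (Localization.Away x) B,
      (algebraMap (Localization.Away x) B).comp (algebraMap A (Localization.Away x)) =
        (algebraMap B₀ B).comp (algebraMap A B₀) ∧
      Module.Finite (Localization.Away x) B ∧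
      Function.Injective (algebraMap (Localization.Away x) B) := by
  have hu : IsUnit (((algebraMap B₀ B).comp (algebraMap A B₀)) x) :=
    IsLocalization.Away.algebraMap_isUnit (algebraMap A B₀ x)
  let φ : Localization.Away x →+* B := IsLocalization.Away.lift x hu
  have hφ : φ.comp (algebraMap A (Localization.Away x)) =
      (algebraMap B₀ B).comp (algebraMap A B₀) := IsLocalization.Away.lift_comp x hu
  let _ : Algebra (Localization.Away x) B := φ.toAlgebra
  let _ : Algebra A B := ((algebraMap B₀ B).comp (algebraMap A B₀)).toAlgebra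
  have t1 : IsScalarTower A B₀ B := .of_algebraMap_eq fun _ => rfl
  have t2 : IsScalarTower A (Localization.Away x) B := .of_algebraMap_eq fun y =>
    (congrArg (fun g => g y) hφ).symm
  have hloc : IsLocalization (Algebra.algebraMapSubmonoid B₀ (Submonoid.powers x)) B := by
    rw [Algebra.algebraMapSubmonoid_powers]
    infer_instance
  refine ⟨inferInstance, hφ, Module.Finite.of_isLocalization A B₀ (Submonoid.powers x), ?_⟩
  have hx0 : algebraMap A B₀ x ≠ 0 := (map_ne_zero_iff _ hinj).2 hx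
  have hB : Function.Injective (algebraMap B₀ B) := IsLocalization.injective B
    (powers_le_nonZeroDivisors_of_noZeroDivisors hx0)
  rw [injective_iff_map_eq_zero]
  intro y hy
  obtain ⟨⟨a, s⟩, hs⟩ := IsLocalization.surj (Submonoid.powers x) y
  have h1 : algebraMap A B a = 0 := by
    rw [IsScalarTower.algebraMap_apply A (Localization.Away x) B]
    change algebraMap (Localization.Away x) B (algebraMap A (Localization.Away x) a) = 0
    rw [← hs, map_mul, hy, zero_mul]
  have h2 : a = 0 := by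
    rw [IsScalarTower.algebraMap_apply A B₀ B] at h1
    exact (map_eq_zero_iff _ hinj).1 ((map_eq_zero_iff _ hB).1 h1)
  have h3 : y * algebraMap A (Localization.Away x) s = 0 := by
    rw [hs]
    change algebraMap A (Localization.Away x) a = 0
    rw [h2, map_zero]
  exact ((IsLocalization.map_units (Localization.Away x) s).mul_left_eq_zero).1 h3

attribute [local instance] Algebra.TensorProduct.rightAlgebra in
/-- **Spreading out a geometrically normal cover.** -/
theorem nodeA (R A : Type u) [CommRing R] [IsDomain R] [IsNoetherianRing R] [CommRing A]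
    [IsDomain A] [Algebra R A] [Algebra.FiniteType R A]
    (hinj : Function.Injective (algebraMap R A)) (h : A) (hh : h ≠ 0) :
    ∃ (r : R) (R₁ B : Type u) (_ : CommRing R₁) (_ : CommRing B) (_ : Algebra R R₁)
      (_ : Algebra R₁ B) (_ : Algebra (Localization.Away (algebraMap R A r)) B), r ≠ 0 ∧
      (algebraMap R₁ B).comp (algebraMap R R₁) =
        (algebraMap (Localization.Away (algebraMap R A r)) B).comp
          ((algebraMap A _).comp (algebraMap R A)) ∧
      Module.Finite (Localization.Away (algebraMap R A r)) B ∧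
      Function.Injective (algebraMap (Localization.Away (algebraMap R A r)) B) ∧
      Module.Flat R₁ B ∧ Algebra.FinitePresentation R₁ B ∧
      (∀ (K : Type u) [Field K] [Algebra R₁ K] (P : Ideal (K ⊗[R₁] B)) [P.IsPrime],
        IsDomain (Localization.AtPrime P) ∧ IsIntegrallyClosed (Localization.AtPrime P)) ∧
      ∀ (K : Type u) [Field K] [Algebra R₁ K],
        (1 ⊗ₜ[R₁] algebraMap (Localization.Away (algebraMap R A r)) B (algebraMap A _ h) :
          K ⊗[R₁] B) ∈ nonZeroDivisors (K ⊗[R₁] B) := by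
  obtain ⟨R₀, B₀, i1, i2, i3, i4, i5, i6, h1, h2, h3, h4, h5, h6, h7, h8, h9⟩ :=
    exists_model R A hinj
  have hR₀ : IsNoetherianRing R₀ := IsNoetherianRing.of_finite R R₀
  have hft : Algebra.FiniteType R₀ B₀ := by
    have e1 : Algebra.FiniteType A B₀ := inferInstance
    have e2 : Algebra.FiniteType R B₀ := Algebra.FiniteType.trans (S := A) inferInstance e1
    exact Algebra.FiniteType.of_restrictScalars_finiteType R R₀ B₀
  obtain ⟨a₁, ha₁, g1⟩ := exists_geomAtAlg R₀ B₀ fun q _ hq => h9 q hq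
  obtain ⟨a₂, ha₂, g2⟩ := genFree_of_finiteType.{u, u, u} (R := R₀) B₀ B₀
  let b : B₀ := algebraMap A B₀ h
  have hb : b ≠ 0 := (map_ne_zero_iff _ h8).2 hh
  obtain ⟨a₃, ha₃, g3⟩ := genFree_of_finiteType.{u, u, u} (R := R₀) B₀ (B₀ ⧸ Ideal.span {b})
  obtain ⟨r, hr, hdvd⟩ := exists_dvd R R₀ (a₁ * (a₂ * a₃)) (mul_ne_zero ha₁ (mul_ne_zero ha₂ ha₃))
  let f : R₀ := algebraMap R R₀ r
  let R₁ := Localization.Away f
  have k1 : IsUnit (algebraMap R₀ R₁ a₁) := by
    have : IsUnit (algebraMap R₀ R₁ f) := IsLocalization.Away.algebraMap_isUnit f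
    exact isUnit_of_dvd_unit (map_dvd _ ((Dvd.intro _ rfl).trans hdvd)) this
  have k2 : FreeAway R₀ B₀ f := g2.of_dvd
    ((Dvd.intro _ rfl : a₂ ∣ a₂ * a₃).trans ((Dvd.intro_left _ rfl).trans hdvd))
  have k3 : FreeAway R₀ (B₀ ⧸ Ideal.span {b}) f := g3.of_dvd
    ((Dvd.intro_left _ rfl : a₃ ∣ a₂ * a₃).trans ((Dvd.intro_left _ rfl).trans hdvd))
  have k4 : algebraMap R₀ B₀ f = algebraMap A B₀ (algebraMap R A r) := by
    rw [← IsScalarTower.algebraMap_apply R R₀ B₀, ← IsScalarTower.algebraMap_apply R A B₀]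
  have k5 : IsLocalization.Away (algebraMap A B₀ (algebraMap R A r)) (R₁ ⊗[R₀] B₀) := by
    rw [← k4]
    infer_instance
  obtain ⟨alg, k6, k7, k8⟩ := exists_away A B₀ (R₁ ⊗[R₀] B₀) h8 (algebraMap R A r)
    ((map_ne_zero_iff _ hinj).2 hr)
  have hfree : Module.Free R₁ (R₁ ⊗[R₀] B₀) := k2.free_tensor R₁
  have hfp : Algebra.FinitePresentation R₀ B₀ := Algebra.FinitePresentation.of_finiteType.1 hft
  refine ⟨r, R₁, R₁ ⊗[R₀] B₀, inferInstance, inferInstance, inferInstance, inferInstance, alg, hr,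
    ?_, k7, k8, inferInstance, inferInstance, fun K _ _ P _ =>
      isNormalRing_fibre R₀ B₀ R₁ a₁ k1 g1 K P, fun K _ _ => ?_⟩
  · rw [← RingHom.comp_assoc, k6]
    ext x
    change (algebraMap R R₁ x) ⊗ₜ[R₀] (1 : B₀) = (1 : R₁) ⊗ₜ[R₀] algebraMap A B₀ (algebraMap R A x)
    rw [← IsScalarTower.algebraMap_apply R A B₀, IsScalarTower.algebraMap_apply R R₀ R₁,
      IsScalarTower.algebraMap_apply R R₀ B₀, Algebra.algebraMap_eq_smul_one,
      Algebra.algebraMap_eq_smul_one (A := B₀), TensorProduct.smul_tmul]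
  · have k9 : algebraMap (Localization.Away (algebraMap R A r)) (R₁ ⊗[R₀] B₀) (algebraMap A _ h) =
        (1 : R₁) ⊗ₜ[R₀] b := congrArg (fun g => g h) k6
    rw [k9]
    exact mem_nonZeroDivisors R₀ B₀ R₁ f b hb k3 K

end K50.GNCover
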