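import Groth.Agent.Unram17.K653.NormMain
import Groth.Agent.S2070
import Mathlib.FieldTheory.PurelyInseparable.PerfectClosure
import Mathlib.FieldTheory.IsAlgClosed.AlgebraicClosure

/-!
# A domain of finite type over a field has a finite cover which is geometrically normal over a
finite purely inseparable extension
-/

set_option autoImplicit false
set_option linter.unusedSectionVars false
open scoped TensorProduct
universe u

namespace K50.GNCover

open K148.RedExt K653.NormCmp
open EGA4 (IsNormalRing)

section

variable (k P A k' : Type u) [Field k] [Field P] [CommRing A] [Algebra k P] [Algebra k A]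
  [Field k'] [Algebra k k'] [Algebra k' P] [IsScalarTower k k' P] [IsDomain A]
  [IsPurelyInseparable k P]
  {T : Type u} [CommRing T] [IsDomain T] [Algebra k' T] (π : k' ⊗[k] A →ₐ[k'] T)
  (hπ : Function.Surjective π) (hker : ∀ z, π z = 0 → IsNilpotent z)

include hπ hker in
omit [IsDomain A] in
/-- The main comparison: the normalization over `k'` becomes the normalization over `P`. -/
theorem equiv (hN : nilradical (P ⊗[k] A) ≤ (nilradical (k' ⊗[k] A)).map (jj k P A k'))
    [IsDomain (Red k P A)]
    (G : Set (integralClosure (Red k P A) (FractionRing (Red k P A))))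
    (hG : Submodule.span (Red k P A) G = ⊤)
    (hG' : ∀ g ∈ G, ∃ a b : k' ⊗[k] A, theta k P A k' b ≠ 0 ∧
      algebraMap (Red k P A) (FractionRing (Red k P A)) (theta k P A k' b) * (g : FractionRing (Red k P A)) =
        algebraMap (Red k P A) (FractionRing (Red k P A)) (theta k P A k' a))
    (D K' : Type u) [CommRing D] [Algebra T D] [Algebra k' D] [IsScalarTower k' T D]
    [Field K'] [Algebra T K'] [IsFractionRing T K'] [Algebra D K'] [IsScalarTower T D K']
    [IsIntegralClosure D T K'] :
    Nonempty (P ⊗[k'] D ≃ₐ[P] (integralClosure (Red k P A) (FractionRing (Red k P A)))) := by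
  let R := Red k P A
  let F := FractionRing R
  let ρ := rho k P A k' π hπ hker
  have hρ : Function.Injective ρ := rho_injective k P A k' π hπ hker
  have hDinj : Function.Injective (algebraMap D K') := IsIntegralClosure.algebraMap_injective D T K'
  have hDdom : IsDomain D := hDinj.isDomain
  have hTD : Function.Injective (algebraMap T D) := by
    intro a b hab
    apply IsFractionRing.injective T K'
    rw [IsScalarTower.algebraMap_apply T D K', hab, ← IsScalarTower.algebraMap_apply]
  let g₀ : T →+* F := (algebraMap R F).comp ρ.toRingHom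
  have hg₀ : Function.Injective g₀ := (IsFractionRing.injective R F).comp hρ
  let lam : K' →+* F := IsFractionRing.lift hg₀
  have hlam : ∀ t : T, lam (algebraMap T K' t) = algebraMap R F (ρ t) :=
    fun t => IsFractionRing.lift_algebraMap hg₀ t
  let _ : Algebra T R := ρ.toRingHom.toAlgebra
  have hTRF : IsScalarTower T R F := inferInstance
  let lamT : K' →ₐ[T] F := { lam with
    commutes' := fun t => (hlam t).trans (IsScalarTower.algebraMap_apply T R F t).symm }
  have hk'TR : IsScalarTower k' T R := IsScalarTower.of_algebraMap_eq fun x => (ρ.commutes x).symm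
  have hTR : Algebra.IsIntegral T R := by
    constructor
    intro x
    obtain ⟨z, rfl⟩ := Phi_surjective k P A k' π hπ hker x
    induction z with
    | zero => rw [map_zero]; exact isIntegral_zero
    | add a b ha hb => rw [map_add]; exact ha.add hb
    | tmul p t =>
      rw [Phi_tmul]
      have h1 : IsIntegral k' p := (Algebra.IsIntegral.isIntegral (R := k) p).tower_top
      have h2 : IsIntegral k' (algebraMap P R p) := h1.map (IsScalarTower.toAlgHom k' P R)
      exact (h2.tower_top (A := T)).mul (isIntegral_algebraMap (R := T) (x := t))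
  let IC := integralClosure R F
  let μ₀ : D →+* F := lam.comp (algebraMap D K')
  have hμ₀ : ∀ d : D, μ₀ d ∈ IC := fun d => by
    have h1 : IsIntegral T (algebraMap D K' d) := (IsIntegralClosure.isIntegral T K' d).algebraMap
    exact (h1.map lamT).tower_top
  let μ₁ : D →+* IC := μ₀.codRestrict IC hμ₀
  let μ : D →ₐ[k'] IC := { μ₁ with
    commutes' := fun x => by
      apply Subtype.ext
      change lam (algebraMap D K' (algebraMap k' D x)) = algebraMap R F (algebraMap k' R x)
      rw [IsScalarTower.algebraMap_apply k' T D, ← IsScalarTower.algebraMap_apply T D K', hlam,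
        ρ.commutes] }
  have hμ : ∀ d : D, (μ d : F) = lam (algebraMap D K' d) := fun d => rfl
  let Ξ : P ⊗[k'] D →ₐ[P] IC := Algebra.TensorProduct.lift (Algebra.ofId P IC) μ
    (fun _ _ => Commute.all _ _)
  have hΞ : ∀ (p : P) (d : D), Ξ (p ⊗ₜ d) = algebraMap P IC p * μ d := fun p d => by
    simp [Ξ, Algebra.ofId_apply]
  have hΞΦ : ∀ w : P ⊗[k'] T, Ξ (Algebra.TensorProduct.map (AlgHom.id P P)
      (IsScalarTower.toAlgHom k' T D) w) = algebraMap R IC (Phi k P A k' π hπ hker w) := by
    intro w
    induction w with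
    | zero => simp
    | add a b ha hb => rw [map_add, map_add, map_add, map_add, ha, hb]
    | tmul p t =>
      rw [Phi_tmul, Algebra.TensorProduct.map_tmul, hΞ]
      apply Subtype.ext
      change algebraMap R F (algebraMap P R p) * lam (algebraMap D K' (algebraMap T D t)) =
        algebraMap R F (algebraMap P R p * ρ t)
      rw [map_mul, ← IsScalarTower.algebraMap_apply T D K', hlam]
  have hΞinj : Function.Injective Ξ := by
    rw [injective_iff_map_eq_zero]
    intro z hz
    obtain ⟨t, ht, w, hw⟩ := exists_mul (T := T) (K' := K') hDinj z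
    have h1 : algebraMap R IC (Phi k P A k' π hπ hker w) = 0 := by
      rw [← hΞΦ, ← hw, map_mul, hz, mul_zero]
    have h2 : algebraMap R F (Phi k P A k' π hπ hker w) = 0 := congrArg Subtype.val h1
    rw [map_eq_zero_iff _ (IsFractionRing.injective R F),
      map_eq_zero_iff _ (Phi_injective k P A k' π hπ hker hN)] at h2
    rw [h2, map_zero] at hw
    exact mul_injective _ ((map_ne_zero_iff _ hTD).2 ht) z hw
  have hΞsurj : Function.Surjective Ξ := by
    intro y
    have hy : y ∈ Submodule.span R G := by rw [hG]; trivial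
    induction hy using Submodule.span_induction with
    | zero => exact ⟨0, map_zero _⟩
    | add a b _ _ ha hb =>
      obtain ⟨a', rfl⟩ := ha
      obtain ⟨b', rfl⟩ := hb
      exact ⟨a' + b', map_add _ _ _⟩
    | smul r a _ ha =>
      obtain ⟨a', rfl⟩ := ha
      obtain ⟨w, rfl⟩ := Phi_surjective k P A k' π hπ hker r
      refine ⟨Algebra.TensorProduct.map (AlgHom.id P P) (IsScalarTower.toAlgHom k' T D) w * a', ?_⟩
      rw [map_mul, hΞΦ]
      exact (Algebra.smul_def _ _).symm
    | mem g hg =>
      obtain ⟨a, b, hb0, hab⟩ := hG' g hg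
      have hρa : ρ (π a) = theta k P A k' a := rho_apply k P A k' π hπ hker a
      have hρb : ρ (π b) = theta k P A k' b := rho_apply k P A k' π hπ hker b
      have hb1 : algebraMap R F (ρ (π b)) ≠ 0 := by
        rw [Ne, map_eq_zero_iff _ (IsFractionRing.injective R F), hρb]
        exact hb0
      let x : K' := algebraMap T K' (π a) / algebraMap T K' (π b)
      have hx : lam x = g := by
        rw [map_div₀, hlam, hlam, div_eq_iff hb1, hρa, ← hab, hρb, mul_comm]
      have hint : IsIntegral T x := by
        have h1 : IsIntegral T (g : F) := isIntegral_trans (R := T) (A := R) _ g.2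
        rw [← hx] at h1
        exact (isIntegral_algHom_iff lamT lam.injective).1 h1
      obtain ⟨d, hd⟩ := (IsIntegralClosure.isIntegral_iff (A := D)).1 hint
      refine ⟨1 ⊗ₜ d, ?_⟩
      rw [hΞ, map_one, one_mul]
      apply Subtype.ext
      rw [hμ, hd, hx]
  exact ⟨AlgEquiv.ofBijective Ξ ⟨hΞinj, hΞsurj⟩⟩

end

/-- Over a perfect field normality is geometric. -/
theorem isNormalRing_of_perfect (k P D : Type u) [Field k] [Field P] [PerfectField P]
    [Algebra k P] [CommRing D] [Algebra k D] (h : IsNormalRing (P ⊗[k] D))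
    (F : Type u) [Field F] [Algebra k F] : IsNormalRing (F ⊗[k] D) := by
  let Ω := AlgebraicClosure P
  have : IsScalarTower k P Ω := inferInstance
  have h1 : IsNormalRing (Ω ⊗[P] (P ⊗[k] D)) := by
    refine Groth.Agent.S2070.general_case P (P ⊗[k] D) (fun P' _ _ _ _ => ?_) Ω
    have hbij : Function.Bijective (algebraMap P P') := by
      refine ⟨(algebraMap P P').injective, ?_⟩
      exact IsPurelyInseparable.surjective_algebraMap_of_isSeparable P P'
    let e : P ≃ₐ[P] P' := AlgEquiv.ofBijective (Algebra.ofId P P') hbij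
    exact Groth.Agent.S2070.isNormalRing_of_ringEquiv
      ((Algebra.TensorProduct.lid P (P ⊗[k] D)).symm.trans
        (Algebra.TensorProduct.congr e AlgEquiv.refl)).toRingEquiv h
  have h2 : IsNormalRing (Ω ⊗[k] D) := Groth.Agent.S2070.isNormalRing_of_ringEquiv
    (Algebra.TensorProduct.cancelBaseChange k P P Ω D).toRingEquiv h1
  refine Groth.Agent.S2070.general_case k D (fun k' _ _ _ _ => ?_) F
  let φ : k' →ₐ[k] Ω := IsAlgClosed.lift
  let _ : Algebra k' Ω := φ.toRingHom.toAlgebra
  have : IsScalarTower k k' Ω := .of_algebraMap_eq fun x => (φ.commutes x).symm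
  exact Groth.Agent.S2070.descend k k' Ω D h2

theorem exists_finset (k P A : Type u) [Field k] [Field P] [CommRing A] [Algebra k P] [Algebra k A]
    [IsDomain A] [Algebra.FiniteType k A] [IsPurelyInseparable k P] [PerfectField P] :
    ∃ s : Finset P, ∀ (k' : Type u) [Field k'] [Algebra k k'] [Algebra k' P]
      [IsScalarTower k k' P], (∀ x ∈ s, x ∈ Set.range (algebraMap k' P)) →
      ∀ (T : Type u) [CommRing T] [IsDomain T] [Algebra k' T] (π : k' ⊗[k] A →ₐ[k'] T),
        Function.Surjective π → (∀ z, π z = 0 → IsNilpotent z) →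
      ∀ (D K' : Type u) [CommRing D] [Algebra T D] [Algebra k' D] [IsScalarTower k' T D]
        [Field K'] [Algebra T K'] [IsFractionRing T K'] [Algebra D K'] [IsScalarTower T D K']
        [IsIntegralClosure D T K'], IsNormalRing (P ⊗[k'] D) := by
  classical
  let R := Red k P A
  let F := FractionRing R
  have hRdom : IsDomain R := isDomain_red k P A
  have hft : Algebra.FiniteType P (P ⊗[k] A) := inferInstance
  have hnoeth : IsNoetherianRing (P ⊗[k] A) := Algebra.FiniteType.isNoetherianRing P _
  have hRft : Algebra.FiniteType P R := Algebra.FiniteType.of_surjective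
    (Ideal.Quotient.mkₐ P (nilradical (P ⊗[k] A))) Ideal.Quotient.mk_surjective
  let IC := integralClosure R F
  have hICfin : Module.Finite R IC :=
    Groth.Agent.VarietyB.FinNormField.finite_integralClosure_of_finiteType P R F F
  obtain ⟨G, hG⟩ := hICfin.fg_top
  obtain ⟨Ng, hNg⟩ := (IsNoetherian.noetherian (nilradical (P ⊗[k] A)))
  have hfrac : ∀ g : IC, ∃ a b : P ⊗[k] A,
      (Ideal.Quotient.mk (nilradical (P ⊗[k] A)) b : R) ≠ 0 ∧
      algebraMap R F (Ideal.Quotient.mk _ b) * (g : F) =
        algebraMap R F (Ideal.Quotient.mk _ a) := by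
    intro g
    obtain ⟨a, b, hb, hab⟩ := IsFractionRing.div_surjective (A := R) (g : F)
    obtain ⟨a, rfl⟩ := Ideal.Quotient.mk_surjective a
    obtain ⟨b, rfl⟩ := Ideal.Quotient.mk_surjective b
    have hb0 : (Ideal.Quotient.mk (nilradical (P ⊗[k] A)) b : R) ≠ 0 := nonZeroDivisors.ne_zero hb
    refine ⟨a, b, hb0, ?_⟩
    have h1 : algebraMap R F (Ideal.Quotient.mk _ b) ≠ 0 := by
      rw [Ne, map_eq_zero_iff _ (IsFractionRing.injective R F)]
      exact hb0
    rw [← hab, mul_comm]
    exact div_mul_cancel₀ _ h1
  choose α β hβ hαβ using hfrac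
  obtain ⟨s, hs⟩ := K653.NormAlg.exists_finset_range_finset.{u} k P A
    (Ng ∪ (G.image α ∪ G.image β))
  refine ⟨s, ?_⟩
  intro k' _ _ _ _ hk' T _ _ _ π hπ hker D K' _ _ _ _ _ _ _ _ _ _
  have hs' : ∀ z ∈ Ng ∪ (G.image α ∪ G.image β), ∃ w : k' ⊗[k] A, jj k P A k' w = z := by
    intro z hz
    obtain ⟨w, hw⟩ := hs k' (IsScalarTower.toAlgHom k k' P) hk' z hz
    exact ⟨w, by rw [← K653.NormMain.map_eq_jj, hw]⟩
  have hN : nilradical (P ⊗[k] A) ≤ (nilradical (k' ⊗[k] A)).map (jj k P A k') := by
    rw [← hNg, Ideal.submodule_span_eq, Ideal.span_le]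
    intro n hn
    obtain ⟨w, rfl⟩ := hs' n (Finset.mem_union_left _ hn)
    have h1 : jj k P A k' w ∈ nilradical (P ⊗[k] A) := by
      rw [← hNg]; exact Submodule.subset_span hn
    have h2 : IsNilpotent w := (IsNilpotent.map_iff (jj_injective k P A k')).1 (mem_nilradical.1 h1)
    exact Ideal.mem_map_of_mem _ (mem_nilradical.2 h2)
  obtain ⟨e⟩ := equiv k P A k' π hπ hker hN (G : Set IC) hG (by
    intro g hg
    obtain ⟨a, ha⟩ := hs' (α g) (Finset.mem_union_right _ (Finset.mem_union_left _
      (Finset.mem_image_of_mem _ hg)))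
    obtain ⟨b, hb⟩ := hs' (β g) (Finset.mem_union_right _ (Finset.mem_union_right _
      (Finset.mem_image_of_mem _ hg)))
    refine ⟨a, b, ?_, ?_⟩
    · change Ideal.Quotient.mk _ (jj k P A k' b) ≠ 0
      rw [hb]; exact hβ g
    · change algebraMap R F (Ideal.Quotient.mk _ (jj k P A k' b)) * (g : F) =
        algebraMap R F (Ideal.Quotient.mk _ (jj k P A k' a))
      rw [ha, hb]
      exact hαβ g) D K'
  have hICn : IsNormalRing IC := by
    have : IsIntegrallyClosed IC := integralClosure.isIntegrallyClosedOfFiniteExtension F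
    exact Groth.Agent.Flat2G.SmoothNormal.isNormalRing_of_isIntegrallyClosed IC
  exact Groth.Agent.S2070.isNormalRing_of_ringEquiv e.symm.toRingEquiv hICn

theorem exists_cover_aux (k P A k' : Type u) [Field k] [Field P] [CommRing A] [Algebra k P]
    [Algebra k A] [IsDomain A] [Algebra.FiniteType k A] [PerfectField P]
    [Field k'] [Algebra k k'] [Algebra k' P] [IsScalarTower k k' P] [Module.Finite k k']
    [IsPurelyInseparable k k']
    (H : ∀ (T : Type u) [CommRing T] [IsDomain T] [Algebra k' T] (π : k' ⊗[k] A →ₐ[k'] T),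
        Function.Surjective π → (∀ z, π z = 0 → IsNilpotent z) →
      ∀ (D K' : Type u) [CommRing D] [Algebra T D] [Algebra k' D] [IsScalarTower k' T D]
        [Field K'] [Algebra T K'] [IsFractionRing T K'] [Algebra D K'] [IsScalarTower T D K']
        [IsIntegralClosure D T K'], IsNormalRing (P ⊗[k'] D)) :
    ∃ (D : Type u) (_ : CommRing D) (_ : Algebra k' D)
      (_ : Algebra A D) (_ : Algebra k D), IsDomain D ∧ IsScalarTower k k' D ∧
      IsScalarTower k A D ∧ Module.Finite A D ∧
      Function.Injective (algebraMap A D) ∧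
      ∀ (F : Type u) [Field F] [Algebra k' F], IsNormalRing (F ⊗[k'] D) := by
  let T := Red k k' A
  have hTdom : IsDomain T := isDomain_red k k' A
  let π : k' ⊗[k] A →ₐ[k'] T := Ideal.Quotient.mkₐ k' (nilradical (k' ⊗[k] A))
  have hπ : Function.Surjective π := Ideal.Quotient.mk_surjective
  have hker : ∀ z, π z = 0 → IsNilpotent z := fun z hz =>
    mem_nilradical.1 (Ideal.Quotient.eq_zero_iff_mem.1 hz)
  have hft' : Algebra.FiniteType k' (k' ⊗[k] A) := inferInstance
  have hTft : Algebra.FiniteType k' T := Algebra.FiniteType.of_surjective π hπ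
  let K' := FractionRing T
  let D := integralClosure T K'
  have hDfin : Module.Finite T D :=
    Groth.Agent.VarietyB.FinNormField.finite_integralClosure_of_finiteType k' T K' K'
  let _ : Algebra A T := (toRed k k' A).toAlgebra
  have hAT : Module.Finite A T := finite_toRed k k' A
  have hATinj : Function.Injective (algebraMap A T) := injective_toRed k k' A
  have hkAT : IsScalarTower k A T := .of_algebraMap_eq fun x => by
    change Ideal.Quotient.mk _ (algebraMap k (k' ⊗[k] A) x) =
      Ideal.Quotient.mk _ ((1 : k') ⊗ₜ[k] (algebraMap k A x))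
    congr 1
    rw [Algebra.TensorProduct.algebraMap_apply, Algebra.algebraMap_eq_smul_one,
      Algebra.algebraMap_eq_smul_one, TensorProduct.smul_tmul]
  let _ : Algebra A D := ((algebraMap T D).comp (algebraMap A T)).toAlgebra
  have hATD : IsScalarTower A T D := .of_algebraMap_eq fun _ => rfl
  refine ⟨D, inferInstance, inferInstance, inferInstance, inferInstance, inferInstance,
    inferInstance, ?_, Module.Finite.trans T D, ?_, ?_⟩
  · refine .of_algebraMap_eq fun x => ?_
    rw [IsScalarTower.algebraMap_apply A T D, ← IsScalarTower.algebraMap_apply k A T,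
      ← IsScalarTower.algebraMap_apply k T D]
  · exact (FaithfulSMul.algebraMap_injective T D).comp hATinj
  · intro F' _ _
    exact isNormalRing_of_perfect k' P D (H T π hπ hker D K') F'

theorem exists_cover (k A : Type u) [Field k] [CommRing A] [IsDomain A] [Algebra k A]
    [Algebra.FiniteType k A] :
    ∃ (k' D : Type u) (_ : Field k') (_ : CommRing D) (_ : Algebra k k') (_ : Algebra k' D)
      (_ : Algebra A D) (_ : Algebra k D), Module.Finite k k' ∧ IsDomain D ∧
      IsScalarTower k k' D ∧
      IsScalarTower k A D ∧ Module.Finite A D ∧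
      Function.Injective (algebraMap A D) ∧
      ∀ (F : Type u) [Field F] [Algebra k' F], IsNormalRing (F ⊗[k'] D) := by
  obtain ⟨s, hs⟩ := exists_finset k (perfectClosure k (AlgebraicClosure k)) A
  let k' := IntermediateField.adjoin k (s : Set (perfectClosure k (AlgebraicClosure k)))
  have hk'fin : Module.Finite k k' := IntermediateField.finiteDimensional_adjoin
    fun x _ => Algebra.IsIntegral.isIntegral x
  have hk'pi : IsPurelyInseparable k k' := inferInstance
  obtain ⟨D, i1, i2, i3, i4, h1, h2, h3, h4, h5, h6⟩ :=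
    exists_cover_aux k (perfectClosure k (AlgebraicClosure k)) A k'
      (hs k' (fun x hx => ⟨⟨x, IntermediateField.subset_adjoin k _ hx⟩, rfl⟩))
  exact ⟨k', D, inferInstance, i1, inferInstance, i2, i3, i4, hk'fin, h1, h2, h3, h4, h5, h6⟩

end K50.GNCover
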