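import Groth.Agent.CohProp.K50.GNSpread
import Mathlib.RingTheory.Localization.Integral
import Mathlib.RingTheory.Localization.BaseChange
import Mathlib.RingTheory.Algebraic.Integral

/-!
# Models of the geometrically normal cover over a domain
-/

set_option autoImplicit false
set_option linter.unusedSectionVars false
open scoped TensorProduct nonZeroDivisors
universe u

namespace K50.GNCover

open Groth.Agent.Ega43.GeomAt Groth.Agent.Ega4fib.H173.NormalPoint
open EGA4 (IsNormalRing)

/-- A finite subalgebra containing a given finite set up to denominators. -/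
theorem exists_subalgebra (R A D : Type u) [CommRing R] [CommRing A] [CommRing D] [Algebra R D]
    [Algebra A D]
    (S T : Finset D) (hT : ∀ x ∈ T, IsIntegral A x)
    (hS : ∀ x ∈ S, ∃ m : R, m ≠ 0 ∧ IsIntegral A (m • x)) :
    ∃ B : Subalgebra A D, Module.Finite A B ∧ (∀ x ∈ T, x ∈ B) ∧
      ∀ x ∈ S, ∃ m : R, m ≠ 0 ∧ m • x ∈ B := by
  classical
  choose! m hm hm' using hS
  let t : Finset D := T ∪ S.image (fun x => m x • x)
  have ht : ∀ x ∈ (t : Set D), IsIntegral A x := by
    intro x hx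
    rcases Finset.mem_union.1 hx with h | h
    · exact hT x h
    · obtain ⟨y, hy, rfl⟩ := Finset.mem_image.1 h
      exact hm' y hy
  refine ⟨Algebra.adjoin A t, ?_, fun x hx => ?_, fun x hx => ⟨m x, hm x hx, ?_⟩⟩
  · have h := fg_adjoin_of_finite t.finite_toSet ht
    exact Module.Finite.iff_fg.2 h
  · exact Algebra.subset_adjoin (Finset.mem_union_left _ hx)
  · exact Algebra.subset_adjoin (Finset.mem_union_right _ (Finset.mem_image_of_mem _ hx))

/-- Denominators. -/
theorem exists_denom (R A AK D : Type u) [CommRing R] [IsDomain R] [CommRing A] [Algebra R A]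
    [CommRing AK] [Algebra A AK] [Algebra R AK] [IsScalarTower R A AK]
    [IsLocalization (Algebra.algebraMapSubmonoid A R⁰) AK] [CommRing D] [Algebra AK D]
    [Algebra A D] [Algebra R D] [IsScalarTower R A D] [IsScalarTower A AK D] [IsScalarTower R AK D]
    (B : Subalgebra A D) (G : Finset D) (hG : Submodule.span AK (G : Set D) = ⊤)
    (h : ∀ g ∈ G, ∃ m : R, m ≠ 0 ∧ m • g ∈ B) (x : D) : ∃ m : R, m ≠ 0 ∧ m • x ∈ B := by
  have hx : x ∈ Submodule.span AK (G : Set D) := by rw [hG]; trivial
  induction hx using Submodule.span_induction with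
  | mem g hg => exact h g hg
  | zero => exact ⟨1, one_ne_zero, by rw [smul_zero]; exact B.zero_mem⟩
  | add x y _ _ hx hy =>
    obtain ⟨m, hm, hmx⟩ := hx
    obtain ⟨n, hn, hny⟩ := hy
    refine ⟨m * n, mul_ne_zero hm hn, ?_⟩
    rw [smul_add]
    refine B.add_mem ?_ ?_
    · rw [mul_comm, mul_smul, ← algebraMap_smul A n]
      exact B.smul_mem hmx _
    · rw [mul_smul, ← algebraMap_smul A m]
      exact B.smul_mem hny _
  | smul a x _ hx =>
    obtain ⟨m, hm, hmx⟩ := hx
    obtain ⟨⟨b, ⟨_, n, hn, rfl⟩⟩, hb⟩ :=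
      IsLocalization.surj (Algebra.algebraMapSubmonoid A R⁰) a
    refine ⟨n * m, mul_ne_zero (nonZeroDivisors.ne_zero hn) hm, ?_⟩
    have h1 : (n * m) • a • x = b • m • x := by
      have h2 : algebraMap A AK b = a * algebraMap A AK (algebraMap R A n) := hb.symm
      rw [← algebraMap_smul AK b, h2, ← IsScalarTower.algebraMap_apply R A AK, mul_smul, mul_smul,
        algebraMap_smul AK n, smul_comm m a x, smul_comm n a]
    rw [h1]
    exact B.smul_mem hmx _

/-- Models of a finite algebra over the generic fibre. -/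
theorem exists_models (R A K AK k' D : Type u) [CommRing R] [IsDomain R]
    [CommRing A] [Algebra R A] [Field K] [Algebra R K] [IsFractionRing R K]
    [CommRing AK] [Algebra A AK] [Algebra R AK] [IsScalarTower R A AK]
    [IsLocalization (Algebra.algebraMapSubmonoid A R⁰) AK]
    [Field k'] [Algebra K k'] [Algebra R k'] [IsScalarTower R K k'] [Module.Finite K k']
    [CommRing D] [Algebra k' D] [Algebra AK D] [Algebra A D] [Algebra R D]
    [IsScalarTower A AK D] [IsScalarTower R A D] [IsScalarTower R AK D]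
    [IsScalarTower R k' D] [Module.Finite AK D] :
    ∃ (R₀ : Subalgebra R k') (B₀ : Subalgebra A D), (∀ x ∈ R₀, algebraMap k' D x ∈ B₀) ∧
      Module.Finite R R₀ ∧ Module.Finite A B₀ ∧ (∀ x : k', ∃ m : R, m ≠ 0 ∧ m • x ∈ R₀) ∧
      (∀ x : D, ∃ m : R, m ≠ 0 ∧ m • x ∈ B₀) := by
  classical
  obtain ⟨G, hG⟩ := (Module.Finite.fg_top : (⊤ : Submodule K k').FG)
  obtain ⟨G', hG'⟩ := (Module.Finite.fg_top : (⊤ : Submodule AK D).FG)
  have hloc : IsLocalization (Algebra.algebraMapSubmonoid R R⁰) K := by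
    rw [Algebra.algebraMapSubmonoid_self]
    infer_instance
  have halg : Algebra.IsAlgebraic R k' := by
    have : Algebra.IsAlgebraic K k' := inferInstance
    exact (IsFractionRing.comap_isAlgebraic_iff (A := R) (K := K) (C := k')).2 this
  obtain ⟨R₀, h1, -, h2⟩ := exists_subalgebra R R k' G ∅ (by simp) (fun x _ => by
    obtain ⟨y, hy, h⟩ := (Algebra.IsAlgebraic.isAlgebraic (R := R) x).exists_integral_multiple
    exact ⟨y, hy, h⟩)
  have h3 : ∀ x : k', ∃ m : R, m ≠ 0 ∧ m • x ∈ R₀ := exists_denom R R K k' R₀ G hG h2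
  obtain ⟨T, hT⟩ := (Module.Finite.fg_top : (⊤ : Submodule R R₀).FG)
  obtain ⟨B₀, h4, h5, h6⟩ := exists_subalgebra R A D G'
    (T.image fun x : R₀ => algebraMap k' D x) (fun x hx => by
      obtain ⟨y, -, rfl⟩ := Finset.mem_image.1 hx
      have h7 : IsIntegral R y := Algebra.IsIntegral.isIntegral y
      have h8 : IsIntegral R (algebraMap k' D y) :=
        (h7.map R₀.val).map (IsScalarTower.toAlgHom R k' D)
      exact h8.tower_top) (fun x _ => by
      obtain ⟨⟨_, n, hn, rfl⟩, h⟩ := IsIntegral.exists_multiple_integral_of_isLocalization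
        (Algebra.algebraMapSubmonoid A R⁰) x (Algebra.IsIntegral.isIntegral (R := AK) x)
      refine ⟨n, nonZeroDivisors.ne_zero hn, ?_⟩
      rw [← algebraMap_smul A n x]
      exact h)
  refine ⟨R₀, B₀, fun x hx => ?_, h1, h4, h3, exists_denom R A AK D B₀ G' hG' h6⟩
  have h7 : (⟨x, hx⟩ : R₀) ∈ Submodule.span R (T : Set R₀) := by rw [hT]; trivial
  have h8 : ∀ y : R₀, y ∈ Submodule.span R (T : Set R₀) → algebraMap k' D y ∈ B₀ := by
    intro y hy
    induction hy using Submodule.span_induction with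
    | mem y hy => exact h5 _ (Finset.mem_image_of_mem _ hy)
    | zero => simp
    | add a b _ _ ha hb =>
      rw [Subalgebra.coe_add, map_add]
      exact B₀.add_mem ha hb
    | smul r a _ ha =>
      have h9 : algebraMap k' D ((r • a : R₀) : k') = algebraMap R A r • algebraMap k' D a := by
        rw [algebraMap_smul, Subalgebra.coe_smul, Algebra.smul_def, Algebra.smul_def, map_mul,
          ← IsScalarTower.algebraMap_apply R k' D]
      rw [h9]
      exact B₀.smul_mem ha _
  exact h8 _ h7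

/-- Points over the generic point. -/
theorem geomAt_generic (R₀ B₀ k' D : Type u) [CommRing R₀] [IsDomain R₀] [Field k'] [Algebra R₀ k']
    [IsFractionRing R₀ k'] [CommRing B₀] [Algebra R₀ B₀] [CommRing D] [Algebra B₀ D] [Algebra k' D]
    [Algebra R₀ D] [IsScalarTower R₀ B₀ D] [IsScalarTower R₀ k' D]
    [IsLocalization (Algebra.algebraMapSubmonoid B₀ R₀⁰) D]
    (hN : ∀ (F : Type u) [Field F] [Algebra k' F], IsNormalRing (F ⊗[k'] D))
    (q : Ideal B₀) (hq : q.comap (algebraMap R₀ B₀) = ⊥) :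
    GeomAtAlg (fun R _ => PNor R) R₀ B₀ q := by
  intro F _ _ Q _ hQ
  have hinj : Function.Injective (algebraMap R₀ F) := by
    rw [injective_iff_map_eq_zero]
    intro a ha
    have h1 : algebraMap R₀ B₀ a ∈ q := by
      rw [← hQ, Ideal.mem_comap, ← IsScalarTower.algebraMap_apply R₀ B₀ (B₀ ⊗[R₀] F)]
      have h2 : algebraMap R₀ (B₀ ⊗[R₀] F) a = (1 : B₀) ⊗ₜ[R₀] (algebraMap R₀ F a) := by
        rw [Algebra.TensorProduct.algebraMap_apply, Algebra.algebraMap_eq_smul_one,
          TensorProduct.smul_tmul, ← Algebra.algebraMap_eq_smul_one]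
      rw [h2, ha, TensorProduct.tmul_zero]
      exact Q.zero_mem
    have h2 : a ∈ q.comap (algebraMap R₀ B₀) := h1
    rwa [hq, Ideal.mem_bot] at h2
  let ψ : k' →+* F := IsFractionRing.lift hinj
  let _ : Algebra k' F := ψ.toAlgebra
  have : IsScalarTower R₀ k' F := .of_algebraMap_eq fun x =>
    (IsFractionRing.lift_algebraMap hinj x).symm
  have hpo : Algebra.IsPushout R₀ B₀ k' D := Algebra.isPushout_of_isLocalization R₀⁰ k' B₀ D
  have hpo' : Algebra.IsPushout R₀ k' B₀ D := hpo.symm
  let e₁ : k' ⊗[R₀] B₀ ≃ₐ[k'] D := Algebra.IsPushout.equiv R₀ k' B₀ D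
  let e₂ : F ⊗[k'] (k' ⊗[R₀] B₀) ≃ₐ[F] F ⊗[R₀] B₀ :=
    Algebra.TensorProduct.cancelBaseChange R₀ k' F F B₀
  let e₃ : F ⊗[k'] (k' ⊗[R₀] B₀) ≃ₐ[F] F ⊗[k'] D := Algebra.TensorProduct.congr AlgEquiv.refl e₁
  have h1 : IsNormalRing (F ⊗[R₀] B₀) :=
    Groth.Agent.S2070.isNormalRing_of_ringEquiv (e₃.symm.trans e₂).toRingEquiv (hN F)
  have h2 : IsNormalRing (B₀ ⊗[R₀] F) :=
    Groth.Agent.S2070.isNormalRing_of_ringEquiv (Algebra.TensorProduct.comm R₀ F B₀).toRingEquiv h1
  exact h2 Q

/-- A criterion for being a localization. -/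
theorem isLocalization_of_denom (R R₀ B D : Type u) [CommRing R] [CommRing R₀] [IsDomain R₀]
    [Algebra R R₀] [CommRing B] [Algebra R₀ B] [CommRing D] [Algebra B D] [Algebra R₀ D]
    [IsScalarTower R₀ B D] [Algebra R D] [IsScalarTower R R₀ D]
    (hR : Function.Injective (algebraMap R R₀)) (hB : Function.Injective (algebraMap B D))
    (hu : ∀ a : R₀, a ≠ 0 → IsUnit (algebraMap R₀ D a))
    (hd : ∀ x : D, ∃ m : R, m ≠ 0 ∧ ∃ b : B, algebraMap B D b = m • x) :
    IsLocalization (Algebra.algebraMapSubmonoid B R₀⁰) D := by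
  constructor
  constructor
  · rintro ⟨_, a, ha, rfl⟩
    have h := hu a (nonZeroDivisors.ne_zero ha)
    rwa [IsScalarTower.algebraMap_apply R₀ B D] at h
  · intro x
    obtain ⟨m, hm, b, hb⟩ := hd x
    have hm0 : algebraMap R R₀ m ≠ 0 := by
      rw [Ne, map_eq_zero_iff _ hR]
      exact hm
    refine ⟨(b, ⟨algebraMap R₀ B (algebraMap R R₀ m), algebraMap R R₀ m,
      mem_nonZeroDivisors_of_ne_zero hm0, rfl⟩), ?_⟩
    change x * algebraMap B D (algebraMap R₀ B (algebraMap R R₀ m)) = algebraMap B D b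
    rw [hb, ← IsScalarTower.algebraMap_apply R₀ B D, ← IsScalarTower.algebraMap_apply R R₀ D,
      Algebra.smul_def, mul_comm]
  · intro x y h
    exact ⟨1, by rw [hB h]⟩

theorem exists_model_aux (R A K AK : Type u) [CommRing R] [IsDomain R] [CommRing A] [IsDomain A]
    [Algebra R A] (hinj : Function.Injective (algebraMap R A)) [Field K] [Algebra R K]
    [IsFractionRing R K] [CommRing AK] [Algebra A AK] [Algebra R AK] [Algebra K AK]
    [IsScalarTower R A AK] [IsScalarTower R K AK]
    [IsLocalization (Algebra.algebraMapSubmonoid A R⁰) AK] [Algebra.FiniteType K AK] :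
    ∃ (R₀ B₀ : Type u) (_ : CommRing R₀) (_ : CommRing B₀) (_ : Algebra R R₀) (_ : Algebra R₀ B₀)
      (_ : Algebra R B₀) (_ : Algebra A B₀), IsDomain R₀ ∧ IsDomain B₀ ∧ IsScalarTower R R₀ B₀ ∧
      IsScalarTower R A B₀ ∧ Module.Finite R R₀ ∧ Module.Finite A B₀ ∧
      Function.Injective (algebraMap R R₀) ∧ Function.Injective (algebraMap A B₀) ∧
      ∀ q : Ideal B₀, q.comap (algebraMap R₀ B₀) = ⊥ →
        GeomAtAlg (fun R _ => PNor R) R₀ B₀ q := by
  have hle : Algebra.algebraMapSubmonoid A R⁰ ≤ A⁰ := by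
    rintro _ ⟨a, ha, rfl⟩
    refine mem_nonZeroDivisors_of_ne_zero ?_
    change algebraMap R A a ≠ 0
    rw [Ne, map_eq_zero_iff _ hinj]
    exact nonZeroDivisors.ne_zero ha
  have hdom : IsDomain AK := IsLocalization.isDomain_of_le_nonZeroDivisors AK hle
  have hAK : Function.Injective (algebraMap A AK) := IsLocalization.injective AK hle
  obtain ⟨k', D, i1, i2, i3, i4, i5, i6, h1, h2, h3, h4, h5, h6, h7⟩ := exists_cover K AK
  let _ : Algebra R k' := ((algebraMap K k').comp (algebraMap R K)).toAlgebra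
  have t1 : IsScalarTower R K k' := .of_algebraMap_eq fun _ => rfl
  let _ : Algebra A D := ((algebraMap AK D).comp (algebraMap A AK)).toAlgebra
  have t2 : IsScalarTower A AK D := .of_algebraMap_eq fun _ => rfl
  let _ : Algebra R D := ((algebraMap AK D).comp (algebraMap R AK)).toAlgebra
  have t3 : IsScalarTower R AK D := .of_algebraMap_eq fun _ => rfl
  have t4 : IsScalarTower R A D := .of_algebraMap_eq fun x => by
    rw [IsScalarTower.algebraMap_apply A AK D, ← IsScalarTower.algebraMap_apply R A AK]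
    rfl
  have t5 : IsScalarTower R k' D := .of_algebraMap_eq fun x => by
    rw [IsScalarTower.algebraMap_apply R K k', ← IsScalarTower.algebraMap_apply K k' D,
      IsScalarTower.algebraMap_apply K AK D, ← IsScalarTower.algebraMap_apply R K AK]
    rfl
  obtain ⟨R₀, B₀, g1, g2, g3, g4, g5⟩ := exists_models R A K AK k' D
  have hRk : Function.Injective (algebraMap R k') :=
    (algebraMap K k').injective.comp (IsFractionRing.injective R K)
  have hAD : Function.Injective (algebraMap A D) := h6.comp hAK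
  have hRR₀ : Function.Injective (algebraMap R R₀) := by
    intro x y hxy
    exact hRk (congrArg (fun z : R₀ => (z : k')) hxy)
  let φ : R₀ →+* B₀ := ((algebraMap k' D).comp R₀.val.toRingHom).codRestrict B₀
    fun x => g1 x x.2
  let _ : Algebra R₀ B₀ := φ.toAlgebra
  have t6 : IsScalarTower R₀ k' D := inferInstance
  have t7 : IsScalarTower R₀ B₀ D := .of_algebraMap_eq fun _ => rfl
  have t8 : IsScalarTower R R₀ D := .of_algebraMap_eq fun x => by
    rw [IsScalarTower.algebraMap_apply R₀ k' D, ← IsScalarTower.algebraMap_apply R R₀ k',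
      ← IsScalarTower.algebraMap_apply R k' D]
  have hfr : IsFractionRing R₀ k' := by
    have h := isLocalization_of_denom R R₀ R₀ k' hRR₀ Subtype.val_injective
      (fun a ha => (isUnit_iff_ne_zero).2 fun h => ha (Subtype.ext h))
      (fun x => by
        obtain ⟨m, hm, hx⟩ := g4 x
        exact ⟨m, hm, ⟨_, hx⟩, rfl⟩)
    rwa [Algebra.algebraMapSubmonoid_self] at h
  have hloc' : IsLocalization (Algebra.algebraMapSubmonoid B₀ R₀⁰) D :=
    isLocalization_of_denom R R₀ B₀ D hRR₀ Subtype.val_injective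
      (fun a ha => by
        have h8 : IsUnit (a : k') := (isUnit_iff_ne_zero).2 fun h => ha (Subtype.ext h)
        exact h8.map (algebraMap k' D))
      (fun x => by
        obtain ⟨m, hm, hx⟩ := g5 x
        exact ⟨m, hm, ⟨_, hx⟩, rfl⟩)
  refine ⟨R₀, B₀, inferInstance, inferInstance, inferInstance, inferInstance, inferInstance,
    inferInstance, inferInstance, inferInstance, ?_, inferInstance, g2, g3, hRR₀, ?_,
    fun q hq => geomAt_generic R₀ B₀ k' D h7 q hq⟩
  · refine .of_algebraMap_eq fun x => ?_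
    apply Subtype.ext
    change algebraMap R D x = algebraMap k' D (algebraMap R k' x)
    rw [← IsScalarTower.algebraMap_apply R k' D]
  · intro x y hxy
    exact hAD (congrArg (fun z : B₀ => (z : D)) hxy)

attribute [local instance] Algebra.TensorProduct.rightAlgebra in
theorem exists_model (R A : Type u) [CommRing R] [IsDomain R] [CommRing A] [IsDomain A]
    [Algebra R A] [Algebra.FiniteType R A] (hinj : Function.Injective (algebraMap R A)) :
    ∃ (R₀ B₀ : Type u) (_ : CommRing R₀) (_ : CommRing B₀) (_ : Algebra R R₀) (_ : Algebra R₀ B₀)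
      (_ : Algebra R B₀) (_ : Algebra A B₀), IsDomain R₀ ∧ IsDomain B₀ ∧ IsScalarTower R R₀ B₀ ∧
      IsScalarTower R A B₀ ∧ Module.Finite R R₀ ∧ Module.Finite A B₀ ∧
      Function.Injective (algebraMap R R₀) ∧ Function.Injective (algebraMap A B₀) ∧
      ∀ q : Ideal B₀, q.comap (algebraMap R₀ B₀) = ⊥ →
        GeomAtAlg (fun R _ => PNor R) R₀ B₀ q :=
  exists_model_aux R A (FractionRing R) (FractionRing R ⊗[R] A) hinj

end K50.GNCover
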