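import Groth.Agent.Ega4fib.H173.Dichotomy
import Groth.Agent.FlatA.GenericFree2
import Groth.Agent.CohProp.K50.GNField

/-!
# Spreading out geometric normality
-/

set_option autoImplicit false
set_option linter.unusedSectionVars false
open scoped TensorProduct
universe u

namespace K50.GNCover

open Groth.Agent.Ega43.GeomAt Groth.Agent.Ega4fib.H173.NormalPoint
open EGA4 (IsNormalRing)

/-- If all points over the generic point are geometrically normal in their fibre, then all points
over a nonempty open subset of the base are. -/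
theorem exists_geomAtAlg (A B : Type u) [CommRing A] [IsDomain A] [IsNoetherianRing A]
    [CommRing B] [Algebra A B] [Algebra.FiniteType A B]
    (h : ∀ q : Ideal B, q.IsPrime → q.comap (algebraMap A B) = ⊥ →
      GeomAtAlg (fun R _ => PNor R) A B q) :
    ∃ a : A, a ≠ 0 ∧ ∀ q : Ideal B, q.IsPrime → algebraMap A B a ∉ q →
      GeomAtAlg (fun R _ => PNor R) A B q := by
  have hB : IsNoetherianRing B := Algebra.FiniteType.isNoetherianRing A B
  suffices H : ∀ J : Ideal B, ∃ a : A, a ≠ 0 ∧ ∀ q : Ideal B, q.IsPrime → J ≤ q →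
      algebraMap A B a ∉ q → GeomAtAlg (fun R _ => PNor R) A B q by
    obtain ⟨a, ha, h1⟩ := H ⊥
    exact ⟨a, ha, fun q hq hqa => h1 q hq bot_le hqa⟩
  let P : Ideal B → Prop := fun J => ∃ a : A, a ≠ 0 ∧ ∀ q : Ideal B, q.IsPrime → J ≤ q →
      algebraMap A B a ∉ q → GeomAtAlg (fun R _ => PNor R) A B q
  have key : ∀ J : Ideal B, (∀ I : Ideal B, I > J → P I) → P J := by
    intro J ih
    by_cases hJ : J.IsPrime
    · by_cases hJA : J.comap (algebraMap A B) = ⊥
      · obtain ⟨b, hb, h1⟩ := Groth.Agent.Ega4fib.H173.Dichotomy.dichotomy (A := A) J hJA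
        have h2 : ∀ r : Ideal B, r.IsPrime → J ≤ r → b ∉ r →
            GeomAtAlg (fun R _ => PNor R) A B r := by
          rcases h1 with h1 | h1
          · exact h1
          · exact absurd (h J hJ hJA) (h1 J hJ le_rfl hb)
        have hlt : J < J ⊔ Ideal.span {b} := by
          refine lt_of_le_of_ne le_sup_left fun h3 => hb ?_
          rw [h3]
          exact Ideal.mem_sup_right (Ideal.mem_span_singleton_self b)
        obtain ⟨a, ha, h3⟩ := ih _ hlt
        refine ⟨a, ha, fun q hq hJq hqa => ?_⟩
        by_cases hbq : b ∈ q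
        · exact h3 q hq (sup_le hJq (by rwa [Ideal.span_singleton_le_iff_mem])) hqa
        · exact h2 q hq hJq hbq
      · obtain ⟨a, haJ, ha⟩ := Submodule.exists_mem_ne_zero_of_ne_bot hJA
        exact ⟨a, ha, fun q hq hJq hqa => absurd (hJq haJ) hqa⟩
    · by_cases hJt : J = ⊤
      · refine ⟨1, one_ne_zero, fun q hq hJq _ => absurd ?_ hq.ne_top⟩
        rw [hJt] at hJq
        exact top_le_iff.1 hJq
      · obtain ⟨x, hx, y, hy, hxy⟩ : ∃ x, x ∉ J ∧ ∃ y, y ∉ J ∧ x * y ∈ J := by
          by_contra hcon
          push Not at hcon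
          exact hJ ⟨hJt, fun {x y} hxy => by
            by_contra h3
            push Not at h3
            exact hcon x h3.1 y h3.2 hxy⟩
        have hlt : ∀ x, x ∉ J → J < J ⊔ Ideal.span {x} := fun x hx => by
          refine lt_of_le_of_ne le_sup_left fun h3 => hx ?_
          rw [h3]
          exact Ideal.mem_sup_right (Ideal.mem_span_singleton_self x)
        obtain ⟨a, ha, h1⟩ := ih _ (hlt x hx)
        obtain ⟨a', ha', h2⟩ := ih _ (hlt y hy)
        refine ⟨a * a', mul_ne_zero ha ha', fun q hq hJq hqa => ?_⟩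
        rw [map_mul] at hqa
        rcases hq.mem_or_mem (hJq hxy) with h3 | h3
        · exact h1 q hq (sup_le hJq (by rwa [Ideal.span_singleton_le_iff_mem]))
            fun h4 => hqa (Ideal.mul_mem_right _ _ h4)
        · exact h2 q hq (sup_le hJq (by rwa [Ideal.span_singleton_le_iff_mem]))
            fun h4 => hqa (Ideal.mul_mem_left _ _ h4)
  exact fun J => IsNoetherian.induction (P := P) key J

end K50.GNCover
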